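import Groth.Agent.S18926
import Groth.Agent.H23RInv.Basic
import Groth.Agent.H29RR.Consts
import Groth.Agent.H29RelOmega.Model
import Groth.Agent.H10Coh.Pn.Results
import Groth.Prelude.Def_ega3

/-!
# Connected fibres from the rank of the global functions
-/

set_option autoImplicit false
set_option linter.style.haveILetI false
set_option backward.isDefEq.respectTransparency.types false

universe u

open CategoryTheory CategoryTheory.Limits AlgebraicGeometry Opposite

namespace Groth.Agent.H29CurveDesc

attribute [local instance 10000] H10Coh.hasSheafifyAb H10Coh.hasWeakSheafifyAb H10Coh.hasExtAb H10Coh.enoughInjAb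

/-- Fibres with only constant functions are geometrically connected. -/
theorem geometricallyConnected_of_fiberRank {X S : Scheme.{u}} (f : X ⟶ S) [QuasiCompact f] [QuasiSeparated f]
    (h0 : ∀ s : S, CohIII.fiberRank f (Coh.structureModule X) 0 s = 1) : GeometricallyConnected f := by
  rw [GeometricallyConnected.iff_geometricallyConnected_fiber]
  intro s
  letI : (f.fiber s).Over (Spec (CommRingCat.of (S.residueField s))) := ⟨f.fiberToSpecResidueField s⟩
  let Z := f.fiber s
  let e : CohIII.fiberMod f (Coh.structureModule X) s ≅ Coh.structureModule Z :=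
    H16Derived.KFlat.Stalk.structurePullbackIso (f.fiberι s)
  have h1 : Module.finrank (S.residueField s) (Coh.HH Z (Coh.structureModule Z) 0) = 1 :=
    (H29RR.hhIso (k := S.residueField s) e 0).finrank_eq.symm.trans (h0 s)
  let E : Coh.HH Z (Coh.structureModule Z) 0 ≃ₗ[S.residueField s] Γ(Z, ⊤) :=
    { H10Coh.HH0Equiv (Coh.structureModule Z) with
      map_smul' := fun c x => by
        refine (H10Coh.HH0Equiv_smul (Coh.structureModule Z) (algebraMap (S.residueField s) Γ(Z, ⊤) c) x).trans ?_
        exact (Algebra.smul_def (A := Γ(Z, ⊤)) c (show Γ(Z, ⊤) from H10Coh.HH0Equiv (Coh.structureModule Z) x)).symm }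
  have h2 : Module.finrank (S.residueField s) Γ(Z, ⊤) = 1 := E.finrank_eq.symm.trans h1
  have hb := H23RInv.bijective_algebraMap_of_finrank_eq_one (k := S.residueField s) (B := Γ(Z, ⊤)) h2
  haveI : Nonempty Z := by
    by_contra hne
    haveI : IsEmpty Z := not_nonempty_iff.1 hne
    haveI : Subsingleton Γ(Z, ⊤) := by
      rw [show (⊤ : Z.Opens) = ⊥ from by ext x; exact isEmptyElim x]
      infer_instance
    rw [Module.finrank_zero_of_subsingleton] at h2
    omega
  haveI : QuasiCompact (f.fiberToSpecResidueField s) := MorphismProperty.pullback_snd _ _ inferInstance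
  haveI : QuasiSeparated (f.fiberToSpecResidueField s) :=
    MorphismProperty.pullback_snd (P := @QuasiSeparated) f (S.fromSpecResidueField s) ‹_›
  refine @Groth.Agent.S18926.geometricallyConnected_of_bijective (S.residueField s) _ Z _ (f.fiberToSpecResidueField s) (by assumption) (by assumption) ?_
  have hb' : Function.Bijective ((f.fiberToSpecResidueField s).appTop ∘
      (Scheme.ΓSpecIso (S.residueField s)).inv) := hb
  exact (Function.Bijective.of_comp_iff _
    (ConcreteCategory.bijective_of_isIso (Scheme.ΓSpecIso (S.residueField s)).inv)).1 hb'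

end Groth.Agent.H29CurveDesc
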