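import Groth.Agent.H13Desc.ModDesc
import Groth.Agent.LeadBC.Seesaw
import Groth.Agent.LeadBC.GenBC.ZeroApply

/-!
# Sections of an invertible module after base change of an affine base
-/

set_option autoImplicit false
set_option linter.style.haveILetI false
set_option linter.unusedSectionVars false
set_option backward.isDefEq.respectTransparency.types false

universe u

open CategoryTheory CategoryTheory.Limits AlgebraicGeometry Opposite TopologicalSpace
open scoped TensorProduct

namespace Groth.Agent.H29CurveDesc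

open Groth.Agent.H10Coh Groth.Agent.LeadBC.GenBC Groth.Agent.H13Desc.ModDesc

attribute [local instance 10000] H10Coh.hasSheafifyAb H10Coh.hasWeakSheafifyAb H10Coh.hasExtAb H10Coh.enoughInjAb

variable {R : CommRingCat.{u}} {X : Scheme.{u}}

/-- Scalars on global functions. -/
noncomputable def scalTop (q : X ⟶ Spec R) : R →+* Γ(X, ⊤) :=
  q.appTop.hom.comp (Scheme.ΓSpecIso R).inv.hom

/-- Global sections as a module over the base. -/
@[reducible] noncomputable def modTop (q : X ⟶ Spec R) (L : X.Modules) : Module R Γ(L, (⊤ : X.Opens)) :=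
  Module.compHom _ (scalTop q)

/-- The map on global sections induced by a map from a pullback. -/
noncomputable def sectMap {X' : Scheme.{u}} {L : X.Modules} {L' : X'.Modules} (h : X' ⟶ X)
    (φ : (Scheme.Modules.pullback h).obj L ⟶ L') : Γ(L, (⊤ : X.Opens)) →+ Γ(L', (⊤ : X'.Opens)) where
  toFun m := φ.app ⊤ (OmegaSh.pullSect h L ⊤ m)
  map_zero' := by
    show φ.app ⊤ (OmegaSh.pullSect h L ⊤ 0) = 0
    rw [map_zero]; exact map_zero _
  map_add' a b := by
    show φ.app ⊤ (OmegaSh.pullSect h L ⊤ (a + b)) =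
      φ.app ⊤ (OmegaSh.pullSect h L ⊤ a) + φ.app ⊤ (OmegaSh.pullSect h L ⊤ b)
    rw [map_add]; exact map_add _ _ _

theorem sectMap_apply {X' : Scheme.{u}} {L : X.Modules} {L' : X'.Modules} (h : X' ⟶ X)
    (φ : (Scheme.Modules.pullback h).obj L ⟶ L') (m : Γ(L, (⊤ : X.Opens))) :
    sectMap h φ m = φ.app ⊤ (OmegaSh.pullSect h L ⊤ m) := rfl

variable {T : CommRingCat.{u}} {X' : Scheme.{u}} {q : X ⟶ Spec R} {q' : X' ⟶ Spec T} {h : X' ⟶ X} {a : R ⟶ T}

theorem appTop_scalTop (w : h ≫ q = q' ≫ Spec.map a) (r : R) :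
    h.appTop (scalTop q r) = scalTop q' (a r) := by
  show h.appTop (q.appTop ((Scheme.ΓSpecIso R).inv r)) = q'.appTop ((Scheme.ΓSpecIso T).inv (a r))
  rw [← CommRingCat.comp_apply, ← Scheme.Hom.comp_appTop, w, Scheme.Hom.comp_appTop, CommRingCat.comp_apply]
  exact congrArg q'.appTop.hom (congr($(Scheme.ΓSpecIso_inv_naturality a) r)).symm

theorem sectMap_smul {L : X.Modules} {L' : X'.Modules} (φ : (Scheme.Modules.pullback h).obj L ⟶ L')
    (w : h ≫ q = q' ≫ Spec.map a) (r : R) (m : Γ(L, (⊤ : X.Opens))) :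
    sectMap h φ (scalTop q r • m) = scalTop q' (a r) • sectMap h φ m := by
  show φ.app ⊤ (OmegaSh.pullSect h L ⊤ (scalTop q r • m)) = _
  rw [OmegaSh.pullSect_smul]
  refine (φ.app_smul _ _).trans ?_
  exact congrArg (· • sectMap h φ m) (appTop_scalTop w r)

variable (q q' a) in
/-- The comparison from extended scalars. -/
noncomputable def extMap {L : X.Modules} {L' : X'.Modules} (φ : (Scheme.Modules.pullback h).obj L ⟶ L')
    (w : h ≫ q = q' ≫ Spec.map a) :
    letI := modTop q L
    E (S := R) Γ(L, (⊤ : X.Opens)) a →+ Γ(L', (⊤ : X'.Opens)) :=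
  letI := modTop q L
  liftE (S := R) a
    (AddMonoidHom.mk' (fun t : T => AddMonoidHom.mk' (fun m => scalTop q' t • sectMap h φ m)
        (fun m m' => by rw [map_add, smul_add]))
      fun t t' => by ext m; exact (congrArg (· • sectMap h φ m) (map_add _ t t')).trans (add_smul _ _ _))
    fun r t m => by
      show scalTop q' (a r * t) • sectMap h φ m = scalTop q' t • sectMap h φ (scalTop q r • m)
      rw [sectMap_smul φ w, smul_smul, map_mul, mul_comm]

theorem extMap_smul_gen {L : X.Modules} {L' : X'.Modules} (φ : (Scheme.Modules.pullback h).obj L ⟶ L')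
    (w : h ≫ q = q' ≫ Spec.map a) (t : T) (m : Γ(L, (⊤ : X.Opens))) :
    letI := modTop q L
    extMap q q' a φ w (t • gen a m) = scalTop q' t • sectMap h φ m :=
  letI := modTop q L
  liftE_smul_gen (S := R) a _ _ t m

theorem extMap_gen {L : X.Modules} {L' : X'.Modules} (φ : (Scheme.Modules.pullback h).obj L ⟶ L')
    (w : h ≫ q = q' ≫ Spec.map a) (m : Γ(L, (⊤ : X.Opens))) :
    letI := modTop q L
    extMap q q' a φ w (gen a m) = sectMap h φ m := by
  letI := modTop q L
  refine ((congrArg (extMap q q' a φ w) (one_smul _ _).symm).trans (extMap_smul_gen φ w 1 m)).trans ?_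
  rw [map_one, one_smul]

set_option maxHeartbeats 1000000 in
/-- Sections commute with base change when the degree zero functor is right exact. -/
theorem extMap_bijective [IsProper q] [Flat q] [LocallyOfFinitePresentation q] {L : X.Modules}
    (hL : PicF.IsInvertible L) (hE : ∀ s, ∃ (W : (Spec R).Opens) (hW : IsAffineOpen W), s ∈ W ∧ EpiOn q L hW 0)
    (sq : IsPullback h q' q (Spec.map a)) {L' : X'.Modules}
    (φ : (Scheme.Modules.pullback h).obj L ≅ L') : Function.Bijective (extMap q q' a φ.hom sq.w) := by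
  have hlf := H23Para.isFinLocFree_of_isInvertible hL
  have hfp : CohB1.IsFP L := H8Props.FinLocFree.isFP_of_isFinLocFree L hlf
  have hfl : FlatMod.IsFlatOver q L := H10Coh.SheafHom.isFlatOver_of_isFinLocFree q L hlf
  haveI : L.IsQuasicoherent := H29Fitt.isQCoh_of_isFP L hfp
  haveI := H10Coh.enoughInjMod X
  haveI := isIso_bc_zero q L sq hfp hfl fun z => hE _
  let g := Spec.map a
  have hle : (⊤ : (Spec T).Opens) ≤ g ⁻¹ᵁ ⊤ := fun z _ => trivial
  letI := (g.appLE ⊤ ⊤ hle).hom.toAlgebra
  letI := Module.compHom Γ((Scheme.Modules.pushforward q').obj ((Scheme.Modules.pullback h).obj L), ⊤)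
    (g.appLE ⊤ ⊤ hle).hom
  haveI : IsScalarTower Γ(Spec R, ⊤) Γ(Spec T, ⊤)
      Γ((Scheme.Modules.pushforward q').obj ((Scheme.Modules.pullback h).obj L), ⊤) :=
    .of_algebraMap_smul fun _ _ => rfl
  obtain ⟨c, hc, hcf⟩ := exists_transpose_app g (H10Coh.isQuasicoherent_pushforward q L) (τ₀ q L sq)
    (isAffineOpen_top _) (isAffineOpen_top _) hle
  letI := modTop q L
  let V := Γ(Spec T, ⊤) ⊗[Γ(Spec R, ⊤)] Γ((Scheme.Modules.pushforward q).obj L, ⊤)
  let lift : V →ₗ[Γ(Spec T, ⊤)] Γ((Scheme.Modules.pushforward q').obj ((Scheme.Modules.pullback h).obj L), ⊤) :=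
    LinearMap.liftBaseChange Γ(Spec T, ⊤) (FBC.locLin g (τ₀ q L sq) hle)
  have hlift : Function.Bijective lift := by
    show Function.Bijective (LinearMap.liftBaseChange Γ(Spec T, ⊤) (FBC.locLin g (τ₀ q L sq) hle) : _ → _)
    rw [hcf]
    exact (ConcreteCategory.bijective_of_isIso _).comp hc
  let eT : T →+* Γ(Spec T, ⊤) := (Scheme.ΓSpecIso T).inv.hom
  have happ : ∀ r : R, g.appLE ⊤ ⊤ hle ((Scheme.ΓSpecIso R).inv r) = eT (a r) := fun r => by
    rw [show g.appLE ⊤ ⊤ hle = g.appTop from (Scheme.Hom.app_eq_appLE g).symm]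
    exact (congr($(Scheme.ΓSpecIso_inv_naturality a) r)).symm
  let m₀ : Γ(L, (⊤ : X.Opens)) → Γ((Scheme.Modules.pushforward q).obj L, ⊤) := fun m => m
  let into : E (S := R) Γ(L, (⊤ : X.Opens)) a →+ V :=
    liftE (S := R) a (AddMonoidHom.mk' (fun t : T => AddMonoidHom.mk' (fun m => eT t ⊗ₜ[Γ(Spec R, ⊤)] m₀ m)
        (fun m m' => TensorProduct.tmul_add _ _ _))
      fun t t' => by
        ext m
        show eT (t + t') ⊗ₜ[Γ(Spec R, ⊤)] m₀ m = _
        rw [map_add]; exact TensorProduct.add_tmul _ _ _)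
    fun r t m => by
      show eT (a r * t) ⊗ₜ[Γ(Spec R, ⊤)] m₀ m =
        eT t ⊗ₜ[Γ(Spec R, ⊤)] m₀ (scalTop q r • m)
      rw [map_mul, ← happ,
        show m₀ (scalTop q r • m) = (Scheme.ΓSpecIso R).inv r • m₀ m from rfl, ← TensorProduct.smul_tmul]
      rfl
  let out : V →+ E (S := R) Γ(L, (⊤ : X.Opens)) a :=
    TensorProduct.liftAddHom
      (AddMonoidHom.mk' (fun b : Γ(Spec T, ⊤) => AddMonoidHom.mk'
          (fun m : Γ((Scheme.Modules.pushforward q).obj L, ⊤) =>
            (Scheme.ΓSpecIso T).hom b • gen (S := R) a (show Γ(L, (⊤ : X.Opens)) from m))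
          (fun m m' => (congrArg (_ • ·) (map_add (gen (S := R) a) _ _)).trans (smul_add _ _ _)))
        fun b b' => by
          ext m
          show (Scheme.ΓSpecIso T).hom (b + b') • gen (S := R) a (show Γ(L, (⊤ : X.Opens)) from m) = _
          rw [map_add, add_smul]
          rfl)
      fun r b m => by
        obtain ⟨r', rfl⟩ := (ConcreteCategory.bijective_of_isIso (Scheme.ΓSpecIso R).inv).2 r
        show (Scheme.ΓSpecIso T).hom (g.appLE ⊤ ⊤ hle ((Scheme.ΓSpecIso R).inv r') * b) •
            gen (S := R) a (show Γ(L, (⊤ : X.Opens)) from m) =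
          (Scheme.ΓSpecIso T).hom b • gen (S := R) a (r' • (show Γ(L, (⊤ : X.Opens)) from m))
        rw [gen_smul, smul_smul, map_mul, happ, mul_comm]
        congr 2
        exact Iso.inv_hom_id_apply (Scheme.ΓSpecIso T) (a r')
  have hoi : ∀ y, out (into y) = y := fun y => by
    induction y using E_induction with
    | h0 => rw [map_zero, map_zero]
    | hadd x y hx hy => rw [map_add, map_add, hx, hy]
    | h t n =>
      rw [liftE_smul_gen]
      show (Scheme.ΓSpecIso T).hom (eT t) • gen (S := R) a n = t • gen (S := R) a n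
      congr 1
      exact Iso.inv_hom_id_apply (Scheme.ΓSpecIso T) t
  have hio : ∀ z, into (out z) = z := fun z => by
    induction z using TensorProduct.induction_on with
    | zero => rw [map_zero, map_zero]
    | add x y hx hy => rw [map_add, map_add, hx, hy]
    | tmul b m =>
      show into ((Scheme.ΓSpecIso T).hom b • gen (S := R) a (show Γ(L, (⊤ : X.Opens)) from m)) = _
      rw [liftE_smul_gen]
      show eT ((Scheme.ΓSpecIso T).hom b) ⊗ₜ[Γ(Spec R, ⊤)] m = _
      congr 1
      exact Iso.hom_inv_id_apply (Scheme.ΓSpecIso T) b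
  have key : ∀ y, extMap q q' a φ.hom sq.w y = φ.hom.app ⊤ (lift (into y)) := fun y => by
    induction y using E_induction with
    | h0 =>
      rw [map_zero, map_zero, map_zero]
      exact (map_zero (φ.hom.app (⊤ : X'.Opens)).hom).symm
    | hadd x y hx hy =>
      rw [map_add, hx, hy, map_add, map_add]
      exact (map_add (φ.hom.app (⊤ : X'.Opens)).hom _ _).symm
    | h t n =>
      rw [extMap_smul_gen, liftE_smul_gen]
      show scalTop q' t • _ = φ.hom.app ⊤ (lift (eT t ⊗ₜ[Γ(Spec R, ⊤)] m₀ n))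
      rw [LinearMap.liftBaseChange_tmul]
      refine Eq.trans ?_ (φ.hom.app_smul (U := (⊤ : X'.Opens)) _ _).symm
      refine congr_arg₂ (· • ·) rfl ?_
      refine congrArg (φ.hom.app ⊤) (Eq.trans ?_
        (LeadBC.Seesaw.locLin_τ₀ q L sq hle (fun z _ => trivial) (m₀ n)).symm)
      exact (H10Coh.rs_self _ _ _).symm
  rw [show (extMap q q' a φ.hom sq.w : _ → _) = φ.hom.app ⊤ ∘ lift ∘ into from funext key]
  exact (ConcreteCategory.bijective_of_isIso (φ.hom.app (⊤ : X'.Opens))).comp
    (hlift.comp ⟨Function.LeftInverse.injective hoi, Function.RightInverse.surjective hio⟩)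

end Groth.Agent.H29CurveDesc
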