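import Groth.Agent.H29CurveDesc.Twist
import Groth.Agent.H29CurveDesc.Sections
import Groth.Agent.H11Ample.Pullback
import Groth.Agent.H13Desc.Eff.Glue
import Groth.Agent.S1133

/-!
# Effective descent from a functorial invertible module with affine loci

A functorial assignment of invertible modules to a class of families, with compatible isomorphisms for base
change, gives invariant sections of a descent datum; their loci of generation descend.
-/

set_option autoImplicit false
set_option linter.style.haveILetI false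
set_option linter.unusedSectionVars false
set_option backward.isDefEq.respectTransparency.types false

universe u

open CategoryTheory CategoryTheory.Limits AlgebraicGeometry Desc
open scoped TensorProduct

namespace Groth.Agent.H29CurveDesc

open Groth.Agent.H13Desc.ModDesc Groth.Agent.H11Ample

/-- A functorial invertible module on a class of families. -/
structure LineSys (P : ∀ ⦃X Y : Scheme.{u}⦄, (X ⟶ Y) → Prop) where
  /-- the module -/
  mod : ∀ ⦃X Y : Scheme.{u}⦄ (f : X ⟶ Y), P f → X.Modules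
  isInvertible : ∀ ⦃X Y : Scheme.{u}⦄ (f : X ⟶ Y) (hf : P f), PicF.IsInvertible (mod f hf)
  /-- the base change isomorphisms -/
  pull : ∀ ⦃X Y X' Y' : Scheme.{u}⦄ ⦃f : X ⟶ Y⦄ ⦃f' : X' ⟶ Y'⦄ ⦃h : X' ⟶ X⦄ ⦃g : Y' ⟶ Y⦄
    (hf : P f) (hf' : P f'), IsPullback h f' f g → ((Scheme.Modules.pullback h).obj (mod f hf) ≅ mod f' hf')
  comp : ∀ ⦃X Y X' Y' X'' Y'' : Scheme.{u}⦄ ⦃f : X ⟶ Y⦄ ⦃f' : X' ⟶ Y'⦄ ⦃f'' : X'' ⟶ Y''⦄ ⦃h : X' ⟶ X⦄
    ⦃g : Y' ⟶ Y⦄ ⦃k : X'' ⟶ X'⦄ ⦃g' : Y'' ⟶ Y'⦄ ⦃l : X'' ⟶ X⦄ ⦃gl : Y'' ⟶ Y⦄ (hf : P f) (hf' : P f')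
    (hf'' : P f'') (sq : IsPullback h f' f g) (sq' : IsPullback k f'' f' g') (sql : IsPullback l f'' f gl)
    (_ : k ≫ h = l) (m : Γ(mod f hf, ⊤)),
    sectMap k (pull hf' hf'' sq').hom (sectMap h (pull hf hf' sq).hom m) = sectMap l (pull hf hf'' sql).hom m

variable {P : ∀ ⦃X Y : Scheme.{u}⦄, (X ⟶ Y) → Prop} (L : LineSys P)

theorem LineSys.gen_sectMap {X Y X' Y' : Scheme.{u}} {f : X ⟶ Y} {f' : X' ⟶ Y'} {h : X' ⟶ X} {g : Y' ⟶ Y}
    (hf : P f) (hf' : P f') (sq : IsPullback h f' f g) (m : Γ(L.mod f hf, ⊤)) :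
    gen (L.mod f' hf') (sectMap h (L.pull hf hf' sq).hom m) = h ⁻¹ᵁ gen (L.mod f hf) m := by
  rw [sectMap_apply]
  refine (gen_iso (L.pull hf hf' sq).hom _).trans ?_
  refine Eq.trans ?_ (gen_smul_pullSect h (L.isInvertible f hf) m isUnit_one)
  rw [one_smul]

variable (hbc : ∀ ⦃X Y X' Y' : Scheme.{u}⦄ ⦃f : X ⟶ Y⦄ ⦃f' : X' ⟶ Y'⦄ ⦃h : X' ⟶ X⦄ ⦃g : Y' ⟶ Y⦄,
  IsPullback h f' f g → P f → P f')

section cocycle

variable {R S : Type u} [CommRing R] [CommRing S] [Algebra R S] {Y : Scheme.{u}}
  {k : Spec (CommRingCat.of R) ⟶ Y} (D : SchDD (cov R S k)) (hD : P D.obj.hom)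
  (hbij : ∀ {T : CommRingCat.{u}} (a : CommRingCat.of S ⟶ T) (φ : (Scheme.Modules.pullback
    (pullback.fst D.obj.hom (Spec.map a))).obj (L.mod D.obj.hom hD) ≅
      L.mod _ (hbc (IsPullback.of_hasPullback D.obj.hom (Spec.map a)) hD)),
    Function.Bijective (extMap D.obj.hom (pullback.snd D.obj.hom (Spec.map a)) a φ.hom pullback.condition))

/-- The sections. -/
noncomputable abbrev Sect : Type u := Γ(L.mod D.obj.hom hD, (⊤ : D.obj.left.Opens))

noncomputable instance : Module S (Sect L D hD) := modTop D.obj.hom (L.mod D.obj.hom hD)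

noncomputable instance : Module R (Sect L D hD) := Module.compHom _ (algebraMap R S)

instance : IsScalarTower R S (Sect L D hD) := ⟨fun r s n => by
  show (r • s) • n = algebraMap R S r • s • n
  rw [Algebra.smul_def, mul_smul]⟩

variable {T : CommRingCat.{u}}

include hbc hD in
theorem hAt (a : CommRingCat.of S ⟶ T) : P (pullback.snd D.obj.hom (Spec.map a)) :=
  hbc (IsPullback.of_hasPullback D.obj.hom (Spec.map a)) hD

/-- The sections over a point. -/
noncomputable def β (a : CommRingCat.of S ⟶ T) : E (Sect L D hD) a →+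
    Γ(L.mod _ (hAt hbc D hD a), (⊤ : (At D a).Opens)) :=
  extMap D.obj.hom (pullback.snd D.obj.hom (Spec.map a)) a
    (L.pull hD (hAt hbc D hD a) (IsPullback.of_hasPullback D.obj.hom (Spec.map a))).hom pullback.condition

/-- The sections pulled back to a point. -/
noncomputable def res (a : CommRingCat.of S ⟶ T) (m : Sect L D hD) :
    Γ(L.mod _ (hAt hbc D hD a), (⊤ : (At D a).Opens)) :=
  sectMap (pullback.fst D.obj.hom (Spec.map a))
    (L.pull hD (hAt hbc D hD a) (IsPullback.of_hasPullback D.obj.hom (Spec.map a))).hom m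

theorem β_smul_gen (a : CommRingCat.of S ⟶ T) (t : T) (m : Sect L D hD) :
    β L hbc D hD a (t • gen a m) = scalTop (pullback.snd D.obj.hom (Spec.map a)) t • res L hbc D hD a m :=
  extMap_smul_gen _ _ t m

theorem β_gen (a : CommRingCat.of S ⟶ T) (m : Sect L D hD) :
    β L hbc D hD a (gen a m) = res L hbc D hD a m :=
  extMap_gen _ _ m

theorem β_smul (a : CommRingCat.of S ⟶ T) (t : T) (x : E (Sect L D hD) a) :
    β L hbc D hD a (t • x) = scalTop (pullback.snd D.obj.hom (Spec.map a)) t • β L hbc D hD a x := by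
  induction x using E_induction with
  | h0 => rw [smul_zero, map_zero, smul_zero]
  | hadd x y hx hy => rw [smul_add, map_add, map_add, hx, hy, smul_add]
  | h t' n => rw [smul_smul, β_smul_gen, β_smul_gen, map_mul, mul_smul]

/-- The transport of sections along the gluing. -/
noncomputable def trans' (a b : CommRingCat.of S ⟶ T) (h : φ R S ≫ a = φ R S ≫ b) :
    Γ(L.mod _ (hAt hbc D hD a), (⊤ : (At D a).Opens)) →+ Γ(L.mod _ (hAt hbc D hD b), (⊤ : (At D b).Opens)) :=
  sectMap (tw D b a h.symm) (L.pull (hAt hbc D hD a) (hAt hbc D hD b) (isPullback_tw D b a h.symm)).hom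

theorem trans'_smul (a b : CommRingCat.of S ⟶ T) (h : φ R S ≫ a = φ R S ≫ b) (t : T)
    (y : Γ(L.mod _ (hAt hbc D hD a), (⊤ : (At D a).Opens))) :
    trans' L hbc D hD a b h (scalTop (pullback.snd D.obj.hom (Spec.map a)) t • y) =
      scalTop (pullback.snd D.obj.hom (Spec.map b)) t • trans' L hbc D hD a b h y :=
  sectMap_smul (a := 𝟙 T) _ (isPullback_tw D b a h.symm).w t y

include hbij

theorem β_bij (a : CommRingCat.of S ⟶ T) : Function.Bijective (β L hbc D hD a) := hbij a _

/-- The gluing maps on sections, as linear maps. -/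
noncomputable def glueLin (a b : CommRingCat.of S ⟶ T) (h : φ R S ≫ a = φ R S ≫ b) :
    ↑(E (Sect L D hD) a) →ₗ[T] ↑(E (Sect L D hD) b) where
  toFun x := (Equiv.ofBijective _ (β_bij L hbc D hD hbij b)).symm
    (trans' L hbc D hD a b h (β L hbc D hD a x))
  map_add' x y := (β_bij L hbc D hD hbij b).1 (by
    simp only [map_add, Equiv.ofBijective_apply_symm_apply])
  map_smul' t x := (β_bij L hbc D hD hbij b).1 (by
    simp only [RingHom.id_apply, β_smul, trans'_smul, Equiv.ofBijective_apply_symm_apply])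

/-- The gluing maps on sections. -/
noncomputable def glueSect (a b : CommRingCat.of S ⟶ T) (h : φ R S ≫ a = φ R S ≫ b) :
    E (Sect L D hD) a ⟶ E (Sect L D hD) b :=
  ConcreteCategory.ofHom (C := ModuleCat T) (X := E (Sect L D hD) a) (Y := E (Sect L D hD) b) (glueLin L hbc D hD hbij a b h)

theorem β_glueSect (a b : CommRingCat.of S ⟶ T) (h : φ R S ≫ a = φ R S ≫ b) (x : E (Sect L D hD) a) :
    β L hbc D hD b (glueSect L hbc D hD hbij a b h x) = trans' L hbc D hD a b h (β L hbc D hD a x) :=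
  Equiv.ofBijective_apply_symm_apply _ _ _

/-- The cocycle of sections. -/
noncomputable def cocycle : Cocycle R S (Sect L D hD) where
  Φ T a b h := glueSect L hbc D hD hbij a b h
  natural T T' a b h g h' n x hx := by
    apply (β_bij L hbc D hD hbij (b ≫ g)).1
    rw [β_glueSect, β_gen]
    have hres : ∀ (d : CommRingCat.of S ⟶ T) (m : Sect L D hD),
        sectMap (push D d g) (L.pull (hAt hbc D hD d) (hAt hbc D hD (d ≫ g)) (isPullback_push D d g)).hom
          (res L hbc D hD d m) = res L hbc D hD (d ≫ g) m := fun d m =>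
      L.comp _ _ _ _ _ _ (push_fst D d g) m
    have key := congrArg (fun y => sectMap (push D b g)
      (L.pull (hAt hbc D hD b) (hAt hbc D hD (b ≫ g)) (isPullback_push D b g)).hom (β L hbc D hD b y)) hx
    simp only [β_glueSect, β_gen] at key
    refine Eq.trans (Eq.trans ?_ key) ?_
    · rw [← hres a n, trans', trans']
      have hsq := (isPullback_tw D (b ≫ g) (a ≫ g) h'.symm).paste_horiz (isPullback_push D a g)
      refine (L.comp _ _ _ _ _ hsq rfl (res L hbc D hD a n)).trans ?_
      exact (L.comp _ _ _ _ _ hsq (push_tw D b a h.symm g h'.symm) (res L hbc D hD a n)).symm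
    · clear key hx
      induction x using TensorProduct.induction_on with
      | zero => simp only [map_zero]
      | add x y hx hy => simp only [map_add, hx, hy]
      | tmul s m =>
        rw [ψ_tmul, ψ_tmul, β_smul_gen, β_smul_gen, sectMap_smul _ (isPullback_push D b g).w, hres]
        rfl
  self T a n := by
    apply (β_bij L hbc D hD hbij a).1
    rw [β_glueSect, β_gen, trans', res]
    exact L.comp _ _ _ _ _ (IsPullback.of_hasPullback D.obj.hom (Spec.map a))
      (by rw [tw_self, Category.id_comp]) n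
  comp T a b d h h' n := by
    apply (β_bij L hbc D hD hbij d).1
    rw [β_glueSect, β_glueSect, β_glueSect, β_gen, trans', trans', trans']
    exact L.comp _ _ _ _ _ (isPullback_tw D d a (h.trans h').symm) (tw_comp D d b a h'.symm h.symm)
      (res L hbc D hD a n)

theorem trans'_res_inv (m : (cocycle L hbc D hD hbij).inv) (a b : CommRingCat.of S ⟶ T)
    (h : φ R S ≫ a = φ R S ≫ b) :
    trans' L hbc D hD a b h (res L hbc D hD a m) = res L hbc D hD b m := by
  have h1 := (cocycle L hbc D hD hbij).Φ_inv a b h 1 m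
  rw [one_smul, map_one, one_smul] at h1
  have h2 := congrArg (β L hbc D hD b) h1
  rwa [show (cocycle L hbc D hD hbij).Φ a b h = glueSect L hbc D hD hbij a b h from rfl, β_glueSect, β_gen,
    β_gen] at h2

end cocycle

open Groth.Agent.H13Desc.Eff in
/-- Effective descent along a faithfully flat map of rings. -/
theorem isEffective_core {R S : Type u} [CommRing R] [CommRing S] [Algebra R S] [Module.Flat R S]
    {Y : Scheme.{u}} {kR : Spec (CommRingCat.of R) ⟶ Y} [IsIso kR] (D : SchDD (cov R S kR))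
    [Surjective (cov R S kR)] [Flat (cov R S kR)] (hD : P D.obj.hom)
    (hbij : ∀ {T : CommRingCat.{u}} (a : CommRingCat.of S ⟶ T) (φ : (Scheme.Modules.pullback
      (pullback.fst D.obj.hom (Spec.map a))).obj (L.mod D.obj.hom hD) ≅
        L.mod _ (hbc (IsPullback.of_hasPullback D.obj.hom (Spec.map a)) hD)),
      Function.Bijective (extMap D.obj.hom (pullback.snd D.obj.hom (Spec.map a)) a φ.hom pullback.condition))
    (hgen : ∀ x : D.obj.left, ∃ m, x ∈ H11Ample.gen (L.mod D.obj.hom hD) m)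
    (haff : ∀ m, IsAffineOpen (H11Ample.gen (L.mod D.obj.hom hD) m)) :
    ∃ U : Over Y, Nonempty ((toDD (cov R S kR)).obj U ≅ D) := by
  let c := cocycle L hbc D hD hbij
  refine isEffective_of_charts fun x => ?_
  obtain ⟨m, hm⟩ : ∃ m : c.inv, x ∈ H11Ample.gen (L.mod D.obj.hom hD) (m : Sect L D hD) := by
    obtain ⟨n, hn⟩ := hgen x
    obtain ⟨z, rfl⟩ := c.e_bijective.2 n
    by_contra hc
    push_neg at hc
    obtain ⟨V, e, hxV, he⟩ := exists_gen (L.isInvertible _ hD) x
    let Q : Sect L D hD → Prop := fun g => ∃ k : Γ(D.obj.left, V),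
      (L.mod D.obj.hom hD).presheaf.map (homOfLE (le_top : V ≤ ⊤)).op g = k • e ∧
        D.obj.left.presheaf.germ V x hxV k ∈ IsLocalRing.maximalIdeal (D.obj.left.presheaf.stalk x)
    have hQ : ∀ g, x ∉ H11Ample.gen (L.mod D.obj.hom hD) g → Q g := fun g hg => by
      obtain ⟨k, hk⟩ := exists_coeff he ((L.mod D.obj.hom hD).presheaf.map (homOfLE (le_top : V ≤ ⊤)).op g)
      refine ⟨k, hk, (IsLocalRing.mem_maximalIdeal _).2 fun hu => hg ?_⟩
      exact ((gen_inf_eq_basicOpen he g k hk).ge ((D.obj.left.mem_basicOpen k x hxV).2 hu)).1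
    have hadd : ∀ g g', Q g → Q g' → Q (g + g') := by
      rintro g g' ⟨k, hk, hm⟩ ⟨k', hk', hm'⟩
      exact ⟨k + k', by rw [map_add, hk, hk', add_smul], by rw [map_add]; exact Ideal.add_mem _ hm hm'⟩
    have hsmul : ∀ (r : Γ(D.obj.left, ⊤)) (g), Q g → Q (r • g) := by
      rintro r g ⟨k, hk, hm⟩
      refine ⟨D.obj.left.presheaf.map (homOfLE (le_top : V ≤ ⊤)).op r * k,
        by rw [Scheme.Modules.map_smul, hk, mul_smul], ?_⟩
      rw [map_mul]
      exact Ideal.mul_mem_left _ _ hm
    have hall : ∀ z, Q (c.e z) := fun z => by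
      induction z using TensorProduct.induction_on with
      | zero => exact ⟨0, by rw [map_zero, map_zero, zero_smul], by rw [map_zero]; exact Ideal.zero_mem _⟩
      | add y y' hy hy' => rw [map_add]; exact hadd _ _ hy hy'
      | tmul s m =>
        rw [c.e_tmul]
        exact hsmul (scalTop D.obj.hom s) _ (hQ _ (hc m))
    obtain ⟨k, hk, hm⟩ := hall z
    have h1 : x ∈ D.obj.left.basicOpen k := (gen_inf_eq_basicOpen he (c.e z) k hk).le ⟨hn, hxV⟩
    exact (IsLocalRing.mem_maximalIdeal _).1 hm ((D.obj.left.mem_basicOpen k x hxV).1 h1)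
  let O := H11Ample.gen (L.mod D.obj.hom hD) (m : Sect L D hD)
  have hO : Saturated D O := by
    rintro U x₀ x₁ h v hv _ ⟨t, rfl⟩
    let K := U.residueField t
    let y : Spec K ⟶ U := U.fromSpecResidueField t
    let a : CommRingCat.of S ⟶ K := Spec.preimage (y ≫ x₀)
    let b : CommRingCat.of S ⟶ K := Spec.preimage (y ≫ x₁)
    have ha : Spec.map a = y ≫ x₀ := Spec.map_preimage _
    have hb : Spec.map b = y ≫ x₁ := Spec.map_preimage _
    have hab : φ R S ≫ a = φ R S ≫ b := Spec.map_injective (by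
      rw [← cancel_mono kR, Spec.map_comp, Spec.map_comp, ha, hb]
      simp only [Category.assoc]
      exact congrArg (y ≫ ·) h)
    let j : Spec K ⟶ At D a := pullback.lift (y ≫ v.1) (𝟙 _) (by
      rw [Category.assoc, v.2, Category.id_comp, ha])
    have e₁ := congrArg (fun M => H11Ample.gen (L.mod _ (hAt hbc D hD b)) M)
      (trans'_res_inv L hbc D hD hbij m a b hab)
    simp only [trans', res, L.gen_sectMap] at e₁
    have hx : (y ≫ x₀) ≫ cov R S kR = (y ≫ x₁) ≫ cov R S kR := by rw [Category.assoc, Category.assoc, h]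
    have hj : j ≫ tw D a b hab ≫ pullback.fst D.obj.hom (Spec.map b) = y ≫ (D.φ x₀ x₁ h v).1 := by
      rw [tw_fst D a b hab j hx ⟨y ≫ v.1, by rw [Category.assoc, v.2]⟩ (pullback.lift_fst _ _ _).symm
        (by rw [pullback.lift_snd_assoc, Category.id_comp, ha])
        (by rw [pullback.lift_snd_assoc, Category.id_comp, hb])]
      exact D.φ_natural y x₀ x₁ h hx v _ rfl
    obtain ⟨z⟩ : Nonempty (Spec K) := inferInstance
    have hyz : y z = t := Scheme.fromSpecResidueField_apply _ _
    have h2 : (tw D a b hab ≫ tw D b a hab.symm ≫ pullback.fst D.obj.hom (Spec.map a)) (j z) ∈ O := by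
      rw [← Category.assoc, tw_comp, tw_self, Category.id_comp, ← Scheme.Hom.comp_apply, pullback.lift_fst,
        Scheme.Hom.comp_apply]
      exact hv ⟨_, rfl⟩
    have h3 : tw D a b hab (j z) ∈ pullback.fst D.obj.hom (Spec.map b) ⁻¹ᵁ O := e₁.le (by simpa using h2)
    show ((D.φ x₀ x₁ h v).1) t ∈ O
    rw [← hyz, ← Scheme.Hom.comp_apply, ← hj]
    simpa using h3
  have : IsAffine (restrict hO).obj.left := haff _
  have : IsAffineHom (restrict hO).obj.hom := isAffineHom_of_isAffine _
  obtain ⟨Z, ⟨e⟩⟩ := Groth.Agent.S1133.result (cov R S kR) (restrict hO)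
  obtain ⟨C, hC⟩ := exists_chart_of_restrict hO Z e
  exact ⟨C, hC.ge hm⟩

end Groth.Agent.H29CurveDesc
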