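import Groth.Agent.H11Div.DualPullback

/-!
# Duals of invertible modules under pullback isomorphisms
-/

set_option autoImplicit false
set_option linter.style.haveILetI false
set_option linter.unusedSectionVars false

noncomputable section

universe u

open CategoryTheory CategoryTheory.Limits AlgebraicGeometry Opposite TopologicalSpace
open Groth.Agent.H11Tilde Groth.Agent.H11Ample Groth.Agent.H8Props.DivisorSection Groth.Agent.H11Div

namespace Groth.Agent.H29CurveDesc

variable {X X' : Scheme.{u}} {F : X.Modules} {F' : X'.Modules}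

/-- The image of a local section under a map from a pullback. -/
def mapSect (h : X' ⟶ X) (φ : (Scheme.Modules.pullback h).obj F ⟶ F') (U : X.Opens) (e : Γ(F, U)) :
    Γ(F', h ⁻¹ᵁ U) :=
  φ.app (h ⁻¹ᵁ U) (OmegaSh.pullSect h F U e)

theorem mapSect_res (h : X' ⟶ X) (φ : (Scheme.Modules.pullback h).obj F ⟶ F') {U V : X.Opens} (hV : V ≤ U)
    (e : Γ(F, U)) : mapSect h φ V (F.presheaf.map (homOfLE hV).op e) =
      F'.presheaf.map (homOfLE (h.preimage_mono hV)).op (mapSect h φ U e) := by
  unfold mapSect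
  rw [pullSect_res]
  exact H10Coh.app_rs φ (h.preimage_mono hV) _

theorem mapSect_smul (h : X' ⟶ X) (φ : (Scheme.Modules.pullback h).obj F ⟶ F') (U : X.Opens) (c : Γ(X, U))
    (e : Γ(F, U)) : mapSect h φ U (c • e) = h.app U c • mapSect h φ U e := by
  unfold mapSect
  rw [OmegaSh.pullSect_smul]
  exact φ.app_smul _ _

theorem isGen_mapSect (h : X' ⟶ X) (φ : (Scheme.Modules.pullback h).obj F ≅ F') {U : X.Opens} {e : Γ(F, U)}
    (he : IsGen F e) : IsGen F' (mapSect h φ.hom U e) :=
  isGen_map_iso φ (IsGen.pullSect h he)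

/-- Dual generators are unique. -/
theorem IsDualGen_unique {U : X.Opens} {e : Γ(F, U)} {s s' : Γ(RefHull.dual F, U)} (he : IsGen F e)
    (h : IsDualGen e s) (h' : IsDualGen e s') : s = s' := by
  have := IsDualGen.eq_smul he h h' (c := 1) (one_smul _ e).symm
  rwa [one_smul] at this

variable (h : X' ⟶ X) (hF : PicF.IsInvertible F) (φ : (Scheme.Modules.pullback h).obj F ≅ F')

include hF in
/-- The isomorphism of duals attached to an isomorphism from a pullback. -/
theorem exists_dualPull : ∃ ψ : (Scheme.Modules.pullback h).obj (RefHull.dual F) ≅ RefHull.dual F',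
    ∀ (U : X.Opens) (e : Γ(F, U)) (s : Γ(RefHull.dual F, U)), IsGen F e → IsDualGen e s →
      IsDualGen (mapSect h φ.hom U e) (mapSect h ψ.hom U s) := by
  choose U e hxU he using exists_gen hF
  choose s hse hs using fun x => exists_dual_gen (he x)
  have hpe := fun x => isGen_mapSect h φ (he x)
  choose t hte ht using fun x => exists_dual_gen (hpe x)
  have hWe : ∀ (i j : X) (c : Γ(X, U i ⊓ U j)),
      F.presheaf.map (homOfLE (inf_le_right : U i ⊓ U j ≤ U j)).op (e j) =
        c • F.presheaf.map (homOfLE (inf_le_left : U i ⊓ U j ≤ U i)).op (e i) →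
      F'.presheaf.map (homOfLE (h.preimage_mono (inf_le_right : U i ⊓ U j ≤ U j))).op (mapSect h φ.hom (U j) (e j)) =
        h.app (U i ⊓ U j) c •
          F'.presheaf.map (homOfLE (h.preimage_mono (inf_le_left : U i ⊓ U j ≤ U i))).op (mapSect h φ.hom (U i) (e i)) := by
    intro i j c hc
    have hpc := congrArg (mapSect h φ.hom (U i ⊓ U j)) hc
    rwa [mapSect_smul, mapSect_res, mapSect_res] at hpc
  obtain ⟨ψ, hψ⟩ := exists_iso_of_gen (fun x : X => h ⁻¹ᵁ U x) (fun z => ⟨h z, hxU (h z)⟩)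
    (fun x => OmegaSh.pullSect h _ _ (s x)) (fun x => IsGen.pullSect h (hs x)) t ht fun i j u hu => by
      let W := U i ⊓ U j
      obtain ⟨c, hc⟩ := exists_coeff ((he i).res (inf_le_left : W ≤ U i))
        (F.presheaf.map (homOfLE (inf_le_right : W ≤ U j)).op (e j))
      have hsc := IsDualGen.eq_smul ((he i).res (inf_le_left : W ≤ U i)) (IsDualGen.res (hse i) inf_le_left)
        (IsDualGen.res (hse j) inf_le_right) hc
      have hps := congrArg (OmegaSh.pullSect h (RefHull.dual F) W) hsc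
      rw [OmegaSh.pullSect_smul, pullSect_res, pullSect_res] at hps
      have hu' : u = h.app W c :=
        (((IsGen.pullSect h (hs j)).res (h.preimage_mono (inf_le_right : W ≤ U j))).bijective le_rfl).1
          (by beta_reduce; rw [H10Coh.mres_self]; exact hu.symm.trans hps)
      rw [hu']
      exact IsDualGen.eq_smul ((hpe i).res (h.preimage_mono (inf_le_left : W ≤ U i)))
        (IsDualGen.res (hte i) (h.preimage_mono inf_le_left))
        (IsDualGen.res (hte j) (h.preimage_mono inf_le_right)) (hWe i j c hc)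
  refine ⟨ψ, fun V e' s' he' hs' z => ?_⟩
  obtain ⟨u, hu, -⟩ := exists_dual_gen (isGen_mapSect h φ he')
  let x := h z.1
  let W := V ⊓ U x
  obtain ⟨c, hc⟩ := exists_coeff (he'.res (inf_le_left : W ≤ V))
    (F.presheaf.map (homOfLE (inf_le_right : W ≤ U x)).op (e x))
  have hsc := IsDualGen.eq_smul (he'.res (inf_le_left : W ≤ V)) (IsDualGen.res hs' inf_le_left)
    (IsDualGen.res (hse x) inf_le_right) hc
  have h1 := congrArg (mapSect h ψ.hom W) hsc
  rw [mapSect_smul, mapSect_res, mapSect_res] at h1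
  have hc' := congrArg (mapSect h φ.hom W) hc
  rw [mapSect_smul, mapSect_res, mapSect_res] at hc'
  have h2 := IsDualGen.eq_smul ((isGen_mapSect h φ he').res (h.preimage_mono (inf_le_left : W ≤ V)))
    (IsDualGen.res hu (h.preimage_mono inf_le_left)) (IsDualGen.res (hte x) (h.preimage_mono inf_le_right)) hc'
  have hψ' : mapSect h ψ.hom (U x) (s x) = t x := hψ x
  rw [hψ'] at h1
  have key := h1.trans h2.symm
  have hzW : z.1 ∈ h ⁻¹ᵁ W := ⟨z.2, hxU x⟩
  have h3 := congrArg (fun σ => σ.1 ⟨z.1, hzW⟩) key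
  refine Eq.trans ?_ (hu z)
  exact LinearMap.congr_fun h3 _

/-- The isomorphism of duals. -/
def dualPull : (Scheme.Modules.pullback h).obj (RefHull.dual F) ≅ RefHull.dual F' :=
  (exists_dualPull h hF φ).choose

theorem isDualGen_dualPull (U : X.Opens) (e : Γ(F, U)) (s : Γ(RefHull.dual F, U)) (he : IsGen F e)
    (hs : IsDualGen e s) : IsDualGen (mapSect h φ.hom U e) (mapSect h (dualPull h hF φ).hom U s) :=
  (exists_dualPull h hF φ).choose_spec U e s he hs

/-- Functoriality. -/
theorem dualPull_comp {X'' : Scheme.{u}} {F'' : X''.Modules} (k : X'' ⟶ X') (hF' : PicF.IsInvertible F')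
    (φ' : (Scheme.Modules.pullback k).obj F' ≅ F'') (l : X'' ⟶ X)
    (φl : (Scheme.Modules.pullback l).obj F ≅ F'') (e : k ≫ h = l)
    (hcomp : ∀ (U : X.Opens) (m : Γ(F, U)),
      F''.presheaf.map (eqToHom (show l ⁻¹ᵁ U = k ⁻¹ᵁ h ⁻¹ᵁ U by rw [← e]; rfl)).op
        (mapSect k φ'.hom (h ⁻¹ᵁ U) (mapSect h φ.hom U m)) = mapSect l φl.hom U m)
    (m : Γ(RefHull.dual F, ⊤)) :
    mapSect k (dualPull k hF' φ').hom ⊤ (mapSect h (dualPull h hF φ).hom ⊤ m) =
      mapSect l (dualPull l hF φl).hom ⊤ m := by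
  subst e
  refine Subtype.ext (funext fun z => ?_)
  obtain ⟨U, e, hxU, he⟩ := exists_gen hF ((k ≫ h) z.1)
  obtain ⟨s, hse, hs⟩ := exists_dual_gen he
  obtain ⟨a, ha⟩ := exists_coeff hs ((RefHull.dual F).presheaf.map (homOfLE (le_top : U ≤ ⊤)).op m)
  have h1 := congrArg (mapSect h (dualPull h hF φ).hom U) ha
  rw [mapSect_smul, mapSect_res] at h1
  have h2 := congrArg (mapSect k (dualPull k hF' φ').hom (h ⁻¹ᵁ U)) h1
  rw [mapSect_smul, mapSect_res] at h2
  have h3 := congrArg (mapSect (k ≫ h) (dualPull (k ≫ h) hF φl).hom U) ha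
  rw [mapSect_smul, mapSect_res] at h3
  have hg := isDualGen_dualPull k hF' φ' (h ⁻¹ᵁ U) _ _ (isGen_mapSect h φ he)
    (isDualGen_dualPull h hF φ U e s he hse)
  have hl := isDualGen_dualPull (k ≫ h) hF φl U e s he hse
  have hc : mapSect k φ'.hom (h ⁻¹ᵁ U) (mapSect h φ.hom U e) = mapSect (k ≫ h) φl.hom U e := by
    rw [← hcomp U e]
    exact (congr($(F''.presheaf.map_id _) _)).symm
  rw [hc] at hg
  have h4 := IsDualGen_unique (isGen_mapSect (k ≫ h) φl he) hl hg
  have happ : (k ≫ h).app U a = k.app (h ⁻¹ᵁ U) (h.app U a) := by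
    rw [Scheme.Hom.comp_app]; rfl
  have key := h2.trans (((congrArg₂ (fun r σ => r • σ) happ.symm h4.symm)).trans h3.symm)
  exact congrArg (fun σ => σ.1 ⟨z.1, hxU⟩) key

end Groth.Agent.H29CurveDesc
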