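import Groth.Agent.H29CurveDesc.OmegaSys
import Groth.Agent.H29CurveDesc.DualMap
import Groth.Agent.H22Alg.NefTensor
import Groth.Agent.H22Alg.KAmple

/-!
# Effective descent of families of smooth curves of genus zero over affine bases
-/

set_option autoImplicit false
set_option linter.style.haveILetI false
set_option linter.unusedSectionVars false
set_option backward.isDefEq.respectTransparency.types false

universe u

open CategoryTheory CategoryTheory.Limits AlgebraicGeometry Desc

namespace Groth.Agent.H29CurveDesc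

open Groth.Agent.H11Ample

attribute [local instance 10000] H10Coh.hasSheafifyAb H10Coh.hasWeakSheafifyAb H10Coh.hasExtAb H10Coh.enoughInjAb

theorem CurveFam.omega_invertible {g : ℕ} {X Y : Scheme.{u}} {f : X ⟶ Y} (hf : CurveFam g f) :
    PicF.IsInvertible (Omega.sheaf f) :=
  haveI := hf.proper; haveI := hf.smooth; haveI := hf.conn
  H29CurveFamily.omega_invertible f hf.dim

/-- The duals of the differentials as a functorial invertible module. -/
noncomputable def dualSys (g : ℕ) : LineSys (CurveFam.{u} g) where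
  mod _ _ f _ := RefHull.dual (Omega.sheaf f)
  isInvertible _ _ _ hf := H8Props.DivisorSection.isInvertible_dual hf.omega_invertible
  pull _ _ _ _ _ _ h _ hf hf' sq := dualPull h hf.omega_invertible (omegaIso hf hf' sq)
  comp X Y X' Y' X'' Y'' f f' f'' h b k b' l bl hf hf' hf'' sq sq' sql e m := by
    haveI := hf.isSeparated; haveI := hf'.isSeparated; haveI := hf''.isSeparated
    refine dualPull_comp h hf.omega_invertible (omegaIso hf hf' sq) k hf'.omega_invertible (omegaIso hf' hf'' sq') l
      (omegaIso hf hf'' sql) e (fun U m => ?_) m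
    have h1 := omegaPull_pullSect f f' h b sq.w.symm U m
    have h2 := omegaPull_pullSect f' f'' k b' sq'.w.symm (h ⁻¹ᵁ U) ((omegaPush f f' h b sq.w.symm).app U m)
    refine Eq.trans ?_ ((omegaPush_comp sq.w.symm sq'.w.symm sql.w.symm e U m).trans
      (omegaPull_pullSect f f'' l bl sql.w.symm U m).symm)
    refine congrArg _ (Eq.trans ?_ h2)
    exact congrArg (mapSect k (omegaIso hf' hf'' sq').hom (h ⁻¹ᵁ U)) h1

/-- The facts on the fibres. -/
theorem dual_fibre {X Y : Scheme.{u}} {f : X ⟶ Y} (hf : CurveFam 0 f) (s : Y) :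
    (∀ z : f.fiber s, ∃ w, z ∈ gen ((Scheme.Modules.pullback (f.fiberι s)).obj (RefHull.dual (Omega.sheaf f))) w) ∧
      CohB1.IsAmple ((Scheme.Modules.pullback (f.fiberι s)).obj (RefHull.dual (Omega.sheaf f))) ∧
      Subsingleton (CohIII.fiberH f (RefHull.dual (Omega.sheaf f)) s 1) := by
  haveI := hf.proper; haveI := hf.smooth; haveI := hf.conn
  letI : (f.fiber s).Over (Spec (CommRingCat.of (Y.residueField s))) := ⟨f.fiberToSpecResidueField s⟩
  let q := f.fiber s ↘ Spec (CommRingCat.of (Y.residueField s))
  haveI : IsProper q := MorphismProperty.pullback_snd f _ inferInstance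
  haveI : Smooth q := MorphismProperty.pullback_snd f _ inferInstance
  haveI : GeometricallyConnected q := (inferInstance : GeometricallyConnected (f.fiberToSpecResidueField s))
  haveI := H29RelOmega.isIntegral_fibre f s
  obtain ⟨eΩ⟩ := S11777.nonempty_iso_omega_baseChange f (Y.fromSpecResidueField s) (f.fiberι s) q
    (IsPullback.of_hasPullback _ _)
  have hd : topologicalKrullDim (f.fiber s) = 1 := hf.dim s
  have h0 := H29CurveDual.finrank_h0_structure_smooth (k := Y.residueField s) (X := f.fiber s)
  have hgen : Curv2.genus (Y.residueField s) (f.fiber s) = 0 := hf.genus_eq s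
  have hΩ := H29CurveDual.isInvertible_omega_curve (k := Y.residueField s) hd
  have hD := H8Props.DivisorSection.isInvertible_dual hΩ
  let e := dualPull (f.fiberι s) hf.omega_invertible eΩ
  have hdeg : Curv2.deg (Y.residueField s) (f.fiber s) (RefHull.dual (Omega.sheaf q)) 1 = 2 := by
    rw [H22Alg.NefTensor.deg_dual (k := Y.residueField s) hd.le
      (fun x => H19Grp.isRegularLocalRing_stalk_of_smooth q x) 1 _ (H29RR.rank_one_of_isInvertible hΩ),
      H29CurveDual.deg_omega_of_h0 (k := Y.residueField s) hd h0, hgen]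
    norm_num
  refine ⟨fun z => ?_, ?_, ?_⟩
  · obtain ⟨w, hw⟩ := exists_mem_gen_of_isGloballyGenerated hD
      (H29CurveDual.isGloballyGenerated_of_deg_ge (k := Y.residueField s) hd.le h0 hD
        (by rw [hdeg, hgen]; norm_num)) z
    exact ⟨e.inv.app ⊤ w, by rw [gen_iso]; exact hw⟩
  · exact isAmple_of_iso e.symm
      (H22Alg.CurveAmple.isAmple_of_deg_pos (k := Y.residueField s) hd hD (by rw [hdeg]; norm_num))
  · haveI := H29CurveDual.subsingleton_h1_of_deg_ge (k := Y.residueField s) hd.le h0 hD
      (by rw [hdeg, hgen]; norm_num)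
    exact (H29RR.hhIso (k := Y.residueField s) e 1).toEquiv.subsingleton

/-- Families of smooth curves of genus zero descend along faithfully flat maps of affine schemes. -/
theorem isEffective_affine_zero {R S : Type u} [CommRing R] [CommRing S] [Algebra R S]
    [Module.Flat R S] {Y : Scheme.{u}} {kR : Spec (CommRingCat.of R) ⟶ Y} [IsIso kR] (D : SchDD (cov R S kR))
    [Surjective (cov R S kR)] [Flat (cov R S kR)] (hD : CurveFam 0 D.obj.hom) :
    ∃ U : Over Y, Nonempty ((toDD (cov R S kR)).obj U ≅ D) := by
  haveI := hD.proper; haveI := hD.smooth; haveI := hD.conn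
  let L := RefHull.dual (Omega.sheaf D.obj.hom)
  have hL : PicF.IsInvertible L := H8Props.DivisorSection.isInvertible_dual hD.omega_invertible
  have hlf := H23Para.isFinLocFree_of_isInvertible hL
  have hfp := H8Props.FinLocFree.isFP_of_isFinLocFree _ hlf
  haveI : L.IsQuasicoherent := H29Fitt.isQCoh_of_isFP _ hfp
  have hfl := H10Coh.SheafHom.isFlatOver_of_isFinLocFree D.obj.hom _ hlf
  haveI := H10Coh.enoughInjMod D.obj.left
  have hE : ∀ s, ∃ (W : (Spec (CommRingCat.of S)).Opens) (hW : IsAffineOpen W),
      s ∈ W ∧ LeadBC.GenBC.EpiOn D.obj.hom L hW 0 := fun s => by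
    obtain ⟨W, hW, hs, -, hm, -⟩ :=
      LeadBC.GenBC.exists_vanishing_nhd D.obj.hom L hfp hfl 1 (s := s) (dual_fibre hD s).2.2
    exact ⟨W, hW, hs, (LeadBC.GenBC.monoOn_succ_iff D.obj.hom L hW hfp hfl 0).1 hm⟩
  refine isEffective_core (dualSys 0) (fun _ _ _ _ _ _ _ _ sq hf => CurveFam.bc sq hf) D hD
    (fun a φ => extMap_bijective hL hE (IsPullback.of_hasPullback _ _) φ)
    (fun x => exists_mem_gen_of_fibre D.obj.hom hL hE (fun s z => (dual_fibre hD s).1 z) x)
    (fun m => isAffineOpen_gen_of_fibre D.obj.hom hL (fun s => (dual_fibre hD s).2.1) m)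

end Groth.Agent.H29CurveDesc
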