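import Groth.Agent.H29RelOmega.Omega
import Groth.Agent.H29RelOmega.Fibre
import Groth.Agent.H29CurveDesc.Sections
import Groth.Agent.H17.Ample.GenAffine
import Groth.Agent.H11Ample.Tensor
import Groth.Agent.H11Ample.RelAmple
import Groth.Agent.S12128

/-!
# Families of smooth curves of a given genus; generation and ampleness from the fibres
-/

set_option autoImplicit false
set_option linter.style.haveILetI false
set_option linter.unusedSectionVars false
set_option backward.isDefEq.respectTransparency.types false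

universe u

open CategoryTheory CategoryTheory.Limits AlgebraicGeometry Opposite TopologicalSpace
open scoped TensorProduct

namespace Groth.Agent.H29CurveDesc

open Groth.Agent.H11Ample Groth.Agent.H11Tilde Groth.Agent.LeadBC.GenBC Groth.Agent.H13Desc.ModDesc

attribute [local instance 10000] H10Coh.hasSheafifyAb H10Coh.hasWeakSheafifyAb H10Coh.hasExtAb H10Coh.enoughInjAb

/-- A family of smooth curves of genus `g`. -/
structure CurveFam (g : ℕ) ⦃X Y : Scheme.{u}⦄ (f : X ⟶ Y) : Prop where
  proper : IsProper f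
  smooth : Smooth f
  conn : GeometricallyConnected f
  dim : ∀ s : Y, topologicalKrullDim ↥(f.fiber s) = 1
  rank : ∀ s : Y, CohIII.fiberRank f (Coh.structureModule X) 1 s = g

theorem CurveFam.bc {g : ℕ} {X Y X' Y' : Scheme.{u}} {f : X ⟶ Y} {f' : X' ⟶ Y'} {h : X' ⟶ X}
    {b : Y' ⟶ Y} (sq : IsPullback h f' f b) (hf : CurveFam g f) : CurveFam g f' := by
  haveI := hf.proper; haveI := hf.smooth; haveI := hf.conn
  haveI hp : IsProper f' := MorphismProperty.of_isPullback sq inferInstance
  exact ⟨hp, MorphismProperty.of_isPullback sq inferInstance, MorphismProperty.of_isPullback sq inferInstance,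
    fun s => (H8Props.FieldDim.dim_fiber_baseChange f sq s).trans (hf.dim _),
    fun s => (H29RelOmega.fiberRank_structure_bc (h := sq) 1 s).trans (hf.rank _)⟩

theorem CurveFam.genus_eq {g : ℕ} {X Y : Scheme.{u}} {f : X ⟶ Y} (hf : CurveFam g f) (s : Y) :
    letI : (f.fiber s).Over (Spec (Y.residueField s)) := ⟨f.fiberToSpecResidueField s⟩
    Curv2.genus (Y.residueField s) (f.fiber s) = g := by
  haveI := hf.proper
  exact (H29RelOmega.fiberRank_one_eq_genus f s).symm.trans (hf.rank s)

variable {R : CommRingCat.{u}} {X : Scheme.{u}} (f : X ⟶ Spec R) [IsProper f] [Flat f]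
  [LocallyOfFinitePresentation f] {L : X.Modules} (hL : PicF.IsInvertible L)

include hL in
/-- Generation on the fibres gives generation by global sections when sections commute with base change. -/
theorem exists_mem_gen_of_fibre
    (hE : ∀ s, ∃ (W : (Spec R).Opens) (hW : IsAffineOpen W), s ∈ W ∧ EpiOn f L hW 0)
    (hgg : ∀ (s : Spec R) (z : f.fiber s), ∃ w, z ∈ gen ((Scheme.Modules.pullback (f.fiberι s)).obj L) w)
    (x : X) : ∃ m, x ∈ gen L m := by
  let s := f x
  let a : R ⟶ (Spec R).residueField s := Spec.preimage ((Spec R).fromSpecResidueField s)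
  have sq : IsPullback (f.fiberι s) (f.fiberToSpecResidueField s) f (Spec.map a) := by
    rw [Spec.map_preimage]
    exact IsPullback.of_hasPullback _ _
  obtain ⟨z, hz⟩ : x ∈ Set.range (f.fiberι s) := (f.range_fiberι s).ge rfl
  let φ : (Scheme.Modules.pullback (f.fiberι s)).obj L ≅ (Scheme.Modules.pullback (f.fiberι s)).obj L := Iso.refl _
  by_contra hne
  push Not at hne
  obtain ⟨w, hw⟩ := hgg s z
  letI := modTop f L
  obtain ⟨y, rfl⟩ := (extMap_bijective hL hE sq φ).2 w
  obtain ⟨B, e₀, hxB, he₀⟩ := exists_gen hL x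
  let V := f.fiberι s ⁻¹ᵁ B
  have hzV : z ∈ V := by show f.fiberι s z ∈ B; rw [hz]; exact hxB
  have he := IsGen.pullSect (f.fiberι s) he₀
  let L' := (Scheme.Modules.pullback (f.fiberι s)).obj L
  let Q : Γ(L', ⊤) → Prop := fun t => ∃ k : Γ(f.fiber s, V),
    L'.presheaf.map (homOfLE (le_top : V ≤ ⊤)).op t = k • OmegaSh.pullSect (f.fiberι s) L B e₀ ∧
      (f.fiber s).presheaf.germ V z hzV k ∈ IsLocalRing.maximalIdeal ((f.fiber s).presheaf.stalk z)
  have hQ : ∀ t, Q t → z ∉ gen L' t := fun t ht hg => by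
    obtain ⟨k, hk, hm⟩ := ht
    exact (IsLocalRing.mem_maximalIdeal _).1 hm
      (((f.fiber s).mem_basicOpen k z hzV).1 ((gen_inf_eq_basicOpen he t k hk).le ⟨hg, hzV⟩))
  refine hQ _ ?_ hw
  clear hw
  induction y using E_induction with
  | h0 => exact ⟨0, by rw [map_zero, map_zero, zero_smul], by rw [map_zero]; exact Ideal.zero_mem _⟩
  | hadd a b ha hb =>
    obtain ⟨k, hk, hm⟩ := ha
    obtain ⟨k', hk', hm'⟩ := hb
    exact ⟨k + k', by rw [map_add, map_add, hk, hk', add_smul], by rw [map_add]; exact Ideal.add_mem _ hm hm'⟩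
  | h t n =>
    rw [extMap_smul_gen]
    obtain ⟨k, hk⟩ := exists_coeff he₀ (L.presheaf.map (homOfLE (le_top : B ≤ ⊤)).op n)
    have hkm : ¬ x ∈ X.basicOpen k := fun h => hne n ((gen_inf_eq_basicOpen he₀ n k hk).ge h).1
    refine ⟨(f.fiber s).presheaf.map (homOfLE (le_top : V ≤ ⊤)).op (scalTop (f.fiberToSpecResidueField s) t) *
      (f.fiberι s).app B k, ?_, ?_⟩
    · rw [Scheme.Modules.map_smul, mul_smul]
      refine congrArg (_ • ·) ?_
      show L'.presheaf.map (homOfLE (le_top : V ≤ ⊤)).op (OmegaSh.pullSect (f.fiberι s) L ⊤ n) = _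
      refine ((pullSect_res (f.fiberι s) L (le_top : B ≤ ⊤) n).symm).trans ?_
      rw [hk, OmegaSh.pullSect_smul]
    · rw [map_mul]
      refine Ideal.mul_mem_left _ _ ((IsLocalRing.mem_maximalIdeal _).2 fun hu => hkm ?_)
      have h1 : z ∈ (f.fiber s).basicOpen ((f.fiberι s).app B k) := ((f.fiber s).mem_basicOpen _ z hzV).2 hu
      rw [← Scheme.preimage_basicOpen] at h1
      rw [← hz]
      exact h1

include hL in
/-- Ampleness on the fibres gives affine loci of generation. -/
theorem isAffineOpen_gen_of_fibre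
    (hamp : ∀ s, CohB1.IsAmple ((Scheme.Modules.pullback (f.fiberι s)).obj L)) (m : Γ(L, ⊤)) :
    IsAffineOpen (gen L m) :=
  H17.GenAffine.isAffineOpen_gen f ((isRelAmple_iff_isAmple_of_isAffine (f := f)).1
    ((Groth.Agent.S12128.result f L hL).2 hamp)) m

end Groth.Agent.H29CurveDesc
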