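import Groth.Agent.S9370
import Groth.Agent.S9386
import Groth.Agent.H17.PrinOmega
import Groth.Agent.H17.Separated
import Groth.Agent.H11Ample.Pullback
import Groth.Agent.H10Coh.FlatBC.Sheaf

/-!
# Pullback of differential forms along commutative squares
-/

set_option autoImplicit false
set_option linter.style.haveILetI false
set_option linter.unusedSectionVars false

universe u

open CategoryTheory CategoryTheory.Limits AlgebraicGeometry Opposite TopologicalSpace

namespace Groth.Agent.H29CurveDesc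

open Groth.Agent.H10Coh

variable {X S X' S' X'' S'' : Scheme.{u}} (f : X ⟶ S) [IsSeparated f] (f' : X' ⟶ S') [IsSeparated f']
  (h : X' ⟶ X) (g : S' ⟶ S) (w : f' ≫ g = h ≫ f)

/-- The pullback of differential forms. -/
noncomputable def omegaPush : Omega.sheaf f ⟶ (Scheme.Modules.pushforward h).obj (Omega.sheaf f') :=
  (H17.PrinOmega.isUniversal_dOmega f _ (S9370.pushDer f f' h g w _ (OmegaSh.dOmega f'))).choose

theorem omegaPush_dSect (U : X.Opens) (s : Γ(X, U)) :
    (omegaPush f f' h g w).app U (OmegaSh.dSect f U s) = OmegaSh.dSect f' (h ⁻¹ᵁ U) (h.app U s) :=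
  PresheafOfModules.Derivation.congr_d
    (H17.PrinOmega.isUniversal_dOmega f _ (S9370.pushDer f f' h g w _ (OmegaSh.dOmega f'))).choose_spec.1
    (X := op U) s

/-- The transpose of the pullback of differential forms. -/
noncomputable def omegaPull : (Scheme.Modules.pullback h).obj (Omega.sheaf f) ⟶ Omega.sheaf f' :=
  ((Scheme.Modules.pullbackPushforwardAdjunction h).homEquiv _ _).symm (omegaPush f f' h g w)

theorem omegaPull_pullSect (U : X.Opens) (m : Γ(Omega.sheaf f, U)) :
    (omegaPull f f' h g w).app (h ⁻¹ᵁ U) (OmegaSh.pullSect h (Omega.sheaf f) U m) =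
      (omegaPush f f' h g w).app U m := by
  have e : omegaPush f f' h g w = (Scheme.Modules.pullbackPushforwardAdjunction h).homEquiv _ _
      (omegaPull f f' h g w) := (Equiv.apply_symm_apply _ _).symm
  rw [e, Adjunction.homEquiv_unit]
  rfl

theorem isDiffCompat_omegaPull :
    OmegaSh.IsDiffCompat h (OmegaSh.dOmega f) (OmegaSh.dOmega f') (omegaPull f f' h g w) := fun U s =>
  (omegaPull_pullSect f f' h g w U (OmegaSh.dSect f U s)).trans (omegaPush_dSect f f' h g w U s)

theorem isIso_omegaPull (hsq : IsPullback h f' f g) : IsIso (omegaPull f f' h g w) :=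
  S9386.result f g h f' hsq _ _ (H17.PrinOmega.isUniversal_dOmega f) _ _
    (H17.PrinOmega.isUniversal_dOmega f') _ (isDiffCompat_omegaPull f f' h g w)

variable {f f' h g}

/-- Functoriality. -/
theorem omegaPush_comp {f'' : X'' ⟶ S''} [IsSeparated f''] {k : X'' ⟶ X'} {g' : S'' ⟶ S'}
    (w' : f'' ≫ g' = k ≫ f') {l : X'' ⟶ X} {gl : S'' ⟶ S} (wl : f'' ≫ gl = l ≫ f) (e : k ≫ h = l)
    (U : X.Opens) (m : Γ(Omega.sheaf f, U)) :
    (Omega.sheaf f'').presheaf.map (eqToHom (show l ⁻¹ᵁ U = k ⁻¹ᵁ h ⁻¹ᵁ U by rw [← e]; rfl)).op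
        ((omegaPush f' f'' k g' w').app (h ⁻¹ᵁ U) ((omegaPush f f' h g w).app U m)) =
      (omegaPush f f'' l gl wl).app U m := by
  let a : Omega.sheaf f ⟶ (Scheme.Modules.pushforward l).obj (Omega.sheaf f'') :=
    omegaPush f f' h g w ≫ (Scheme.Modules.pushforward h).map (omegaPush f' f'' k g' w') ≫
      (Scheme.Modules.pushforwardComp k h).hom.app _ ≫ (Scheme.Modules.pushforwardCongr e).hom.app _
  have key : a = omegaPush f f'' l gl wl := by
    refine H17.PrinOmega.omega_ext f _ _ _ fun V s => ?_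
    rw [omegaPush_dSect f f'' l gl wl V s]
    simp only [a, Scheme.Modules.Hom.comp_app, Scheme.Modules.pushforwardComp_hom_app_app,
      Scheme.Modules.pushforwardCongr_hom_app_app]
    show (Omega.sheaf f'').presheaf.map _ ((omegaPush f' f'' k g' w').app (h ⁻¹ᵁ V)
      ((omegaPush f f' h g w).app V (OmegaSh.dSect f V s))) = _
    erw [omegaPush_dSect f f' h g w V s, omegaPush_dSect f' f'' k g' w' (h ⁻¹ᵁ V) (h.app V s)]
    subst e
    have hd := (OmegaSh.dOmega f'').d_map (X := op (k ⁻¹ᵁ h ⁻¹ᵁ V)) (Y := op ((k ≫ h) ⁻¹ᵁ V))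
      (eqToHom (rfl : k ⁻¹ᵁ h ⁻¹ᵁ V = (k ≫ h) ⁻¹ᵁ V).symm).op
      ((k.app (h ⁻¹ᵁ V)) (h.app V s))
    refine hd.symm.trans ?_
    exact congrArg (OmegaSh.dSect f'' ((k ≫ h) ⁻¹ᵁ V)) (by rw [Scheme.Hom.comp_app]; simp; rfl)
  rw [← key]
  simp only [a, Scheme.Modules.Hom.comp_app, Scheme.Modules.pushforwardComp_hom_app_app,
    Scheme.Modules.pushforwardCongr_hom_app_app]
  rfl

end Groth.Agent.H29CurveDesc
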