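import Groth.Agent.H29CurveDesc.Core
import Groth.Agent.H29CurveDesc.OmegaMap
import Groth.Agent.H29CurveDesc.Family
import Groth.Agent.H29CurveFamily.Push
import Groth.Agent.H29CurveDual.OmegaGen
import Groth.Agent.H22Alg.CurveAmple
import Groth.Agent.S11777

/-!
# Effective descent of families of smooth curves of genus at least two over affine bases
-/

set_option autoImplicit false
set_option linter.style.haveILetI false
set_option linter.unusedSectionVars false
set_option backward.isDefEq.respectTransparency.types false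

universe u

open CategoryTheory CategoryTheory.Limits AlgebraicGeometry Desc

namespace Groth.Agent.H29CurveDesc

open Groth.Agent.H11Ample

attribute [local instance 10000] H10Coh.hasSheafifyAb H10Coh.hasWeakSheafifyAb H10Coh.hasExtAb H10Coh.enoughInjAb

theorem CurveFam.isSeparated {g : ℕ} {X Y : Scheme.{u}} {f : X ⟶ Y} (hf : CurveFam g f) : IsSeparated f := by
  haveI := hf.proper; infer_instance

/-- The pullback isomorphism of differentials. -/
noncomputable def omegaIso {g : ℕ} {X Y X' Y' : Scheme.{u}} {f : X ⟶ Y} {f' : X' ⟶ Y'} {h : X' ⟶ X}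
    {b : Y' ⟶ Y} (hf : CurveFam g f) (hf' : CurveFam g f') (sq : IsPullback h f' f b) :
    (Scheme.Modules.pullback h).obj (Omega.sheaf f) ≅ Omega.sheaf f' :=
  haveI := hf.isSeparated
  haveI := hf'.isSeparated
  haveI := isIso_omegaPull f f' h b sq.w.symm sq
  asIso (omegaPull f f' h b sq.w.symm)

theorem omegaIso_sectMap {g : ℕ} {X Y X' Y' : Scheme.{u}} {f : X ⟶ Y} {f' : X' ⟶ Y'} {h : X' ⟶ X}
    {b : Y' ⟶ Y} (hf : CurveFam g f) (hf' : CurveFam g f') [IsSeparated f] [IsSeparated f']
    (sq : IsPullback h f' f b) (m : Γ(Omega.sheaf f, ⊤)) :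
    sectMap h (omegaIso hf hf' sq).hom m = (omegaPush f f' h b sq.w.symm).app ⊤ m :=
  omegaPull_pullSect f f' h b sq.w.symm ⊤ m

/-- The differentials as a functorial invertible module. -/
noncomputable def omegaSys (g : ℕ) : LineSys (CurveFam.{u} g) where
  mod _ _ f _ := Omega.sheaf f
  isInvertible _ _ f hf :=
    haveI := hf.proper; haveI := hf.smooth; haveI := hf.conn
    H29CurveFamily.omega_invertible f hf.dim
  pull _ _ _ _ _ _ _ _ hf hf' sq := omegaIso hf hf' sq
  comp X Y X' Y' X'' Y'' f f' f'' h b k b' l bl hf hf' hf'' sq sq' sql e m := by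
    haveI := hf.isSeparated; haveI := hf'.isSeparated; haveI := hf''.isSeparated
    rw [omegaIso_sectMap hf hf' sq, omegaIso_sectMap hf' hf'' sq', omegaIso_sectMap hf hf'' sql]
    refine Eq.trans ?_ (omegaPush_comp sq.w.symm sq'.w.symm sql.w.symm e ⊤ m)
    exact (congr($((Omega.sheaf f'').presheaf.map_id _) _)).symm

/-- The facts on the fibres. -/
theorem omega_fibre {g : ℕ} (hg : 2 ≤ g) {X Y : Scheme.{u}} {f : X ⟶ Y} (hf : CurveFam g f) (s : Y) :
    (∀ z : f.fiber s, ∃ w, z ∈ gen ((Scheme.Modules.pullback (f.fiberι s)).obj (Omega.sheaf f)) w) ∧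
      CohB1.IsAmple ((Scheme.Modules.pullback (f.fiberι s)).obj (Omega.sheaf f)) := by
  haveI := hf.proper; haveI := hf.smooth; haveI := hf.conn
  letI : (f.fiber s).Over (Spec (CommRingCat.of (Y.residueField s))) := ⟨f.fiberToSpecResidueField s⟩
  let q := f.fiber s ↘ Spec (CommRingCat.of (Y.residueField s))
  haveI : IsProper q := MorphismProperty.pullback_snd f _ inferInstance
  haveI : Smooth q := MorphismProperty.pullback_snd f _ inferInstance
  haveI : GeometricallyConnected q := (inferInstance : GeometricallyConnected (f.fiberToSpecResidueField s))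
  haveI := H29RelOmega.isIntegral_fibre f s
  obtain ⟨eΩ⟩ := S11777.nonempty_iso_omega_baseChange f (Y.fromSpecResidueField s) (f.fiberι s) q
    (IsPullback.of_hasPullback _ _)
  have hd : topologicalKrullDim (f.fiber s) = 1 := hf.dim s
  have h0 := H29CurveDual.finrank_h0_structure_smooth (k := Y.residueField s) (X := f.fiber s)
  have hgen : Curv2.genus (Y.residueField s) (f.fiber s) = g := hf.genus_eq s
  have hΩ := H29CurveDual.isInvertible_omega_curve (k := Y.residueField s) hd
  refine ⟨fun z => ?_, ?_⟩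
  · obtain ⟨w, hw⟩ := exists_mem_gen_of_isGloballyGenerated hΩ
      (H29CurveDual.isGloballyGenerated_omega (k := Y.residueField s) hd h0 (by rw [hgen]; omega)) z
    exact ⟨eΩ.inv.app ⊤ w, by rw [gen_iso]; exact hw⟩
  · refine isAmple_of_iso eΩ.symm (H22Alg.CurveAmple.isAmple_of_deg_pos (k := Y.residueField s) hd hΩ ?_)
    rw [H29CurveDual.deg_omega_of_h0 (k := Y.residueField s) hd h0, hgen]
    omega

/-- Families of smooth curves of genus at least two descend along faithfully flat maps of affine schemes. -/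
theorem isEffective_affine_two_le {g : ℕ} (hg : 2 ≤ g) {R S : Type u} [CommRing R] [CommRing S] [Algebra R S]
    [Module.Flat R S] {Y : Scheme.{u}} {kR : Spec (CommRingCat.of R) ⟶ Y} [IsIso kR] (D : SchDD (cov R S kR))
    [Surjective (cov R S kR)] [Flat (cov R S kR)] (hD : CurveFam g D.obj.hom) :
    ∃ U : Over Y, Nonempty ((toDD (cov R S kR)).obj U ≅ D) := by
  haveI := hD.proper; haveI := hD.smooth; haveI := hD.conn
  have hΩ := H29CurveFamily.omega_invertible D.obj.hom hD.dim
  have hE : ∀ s, ∃ (W : (Spec (CommRingCat.of S)).Opens) (hW : IsAffineOpen W),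
      s ∈ W ∧ LeadBC.GenBC.EpiOn D.obj.hom (Omega.sheaf D.obj.hom) hW 0 := fun s => by
    obtain ⟨W, hW, hs, -, he⟩ := H29RelOmega.exists_exact_omega D.obj.hom hD.dim s
    exact ⟨W, hW, hs, he⟩
  refine isEffective_core (omegaSys g) (fun _ _ _ _ _ _ _ _ sq hf => CurveFam.bc sq hf) D hD
    (fun a φ => extMap_bijective hΩ hE (IsPullback.of_hasPullback _ _) φ)
    (fun x => exists_mem_gen_of_fibre D.obj.hom hΩ hE (fun s z => (omega_fibre hg hD s).1 z) x)
    (fun m => isAffineOpen_gen_of_fibre D.obj.hom hΩ (fun s => (omega_fibre hg hD s).2) m)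

end Groth.Agent.H29CurveDesc
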