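import Groth.Agent.H29CurveDesc.Twist
import Groth.Agent.H13Desc.Eff.Glue
import Groth.Agent.H13Desc.Fpqc

/-!
# Effectivity of descent data along fpqc morphisms reduces to faithfully flat maps of rings
-/

set_option autoImplicit false
set_option linter.style.haveILetI false
set_option linter.unusedSectionVars false
set_option backward.isDefEq.respectTransparency false
set_option backward.isDefEq.respectTransparency.types false

universe u

open CategoryTheory CategoryTheory.Limits AlgebraicGeometry Desc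

namespace Groth.Agent.H29CurveDesc

open Groth.Agent.H13Desc.Eff

variable (P : ∀ ⦃X Y : Scheme.{u}⦄, (X ⟶ Y) → Prop)

/-- Effectivity for a class of families reduces to faithfully flat maps of rings. -/
theorem isEffective_of_rings
    (hbc : ∀ ⦃X Y X' Y' : Scheme.{u}⦄ ⦃f : X ⟶ Y⦄ ⦃f' : X' ⟶ Y'⦄ ⦃h : X' ⟶ X⦄ ⦃g : Y' ⟶ Y⦄,
      IsPullback h f' f g → P f → P f')
    (haff : ∀ (R S : Type u) [CommRing R] [CommRing S] [Algebra R S] [Module.Flat R S] (Y : Scheme.{u})
      (k : Spec (CommRingCat.of R) ⟶ Y) [IsIso k] (D : SchDD (cov R S k)) [Surjective (cov R S k)]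
      [Flat (cov R S k)], P D.obj.hom → ∃ U : Over Y, Nonempty ((toDD (cov R S k)).obj U ≅ D))
    {X S : Scheme.{u}} {p : X ⟶ S} (hp : Presieve.singleton p ∈ Scheme.fpqcPrecoverage S) (D : SchDD p)
    (hD : P D.obj.hom) : ∃ U : Over S, Nonempty ((toDD p).obj U ≅ D) := by
  haveI : IsCover p := ⟨hp⟩
  haveI : Flat p := Groth.Agent.H13Desc.fpqc_flat (IsCover.ofArrows p) PUnit.unit
  haveI : Surjective p := ⟨fun x => by
    obtain ⟨i, y, hy⟩ := Groth.Agent.H13Desc.fpqc_covers (IsCover.ofArrows p) x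
    exact ⟨y, hy⟩⟩
  refine isEffective_of_charts fun v => ?_
  obtain ⟨W, hW, hv, -⟩ := exists_isAffineOpen_mem_and_subset (U := (⊤ : S.Opens))
    (x := (D.obj.hom ≫ p) v) trivial
  obtain ⟨n, a, V, g, hV, hg, hfl, hsu, hqc⟩ :=
    Groth.Agent.H13Desc.fpqc_exists_affine_refinement (IsCover.ofArrows p) W hW
  haveI : ∀ l, IsAffine (V l).toScheme := hV
  haveI : IsAffine W.toScheme := hW
  haveI := hfl
  haveI := hsu
  let Z : Scheme.{u} := ∐ fun l => (V l).toScheme
  haveI : IsAffine Z := by show IsAffine (∐ fun l => (V l).toScheme); infer_instance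
  let c₀ : Z ⟶ W.toScheme := Sigma.desc g
  let π₀ : Z ⟶ X := Sigma.desc fun l => (V l).ι
  have hc₀ : π₀ ≫ p = c₀ ≫ W.ι := Sigma.hom_ext _ _ fun l => by simp [π₀, c₀, hg]
  let R := Γ(W.toScheme, ⊤)
  let B := Γ(Z, ⊤)
  letI : Algebra R B := c₀.appTop.hom.toAlgebra
  let k : Spec (CommRingCat.of R) ⟶ W.toScheme := W.toScheme.isoSpec.inv
  haveI : IsIso k := by show IsIso W.toScheme.isoSpec.inv; infer_instance
  let π : Spec (CommRingCat.of B) ⟶ X := Z.isoSpec.inv ≫ π₀
  have hcov : cov R B k = Z.isoSpec.inv ≫ c₀ := by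
    rw [Iso.eq_inv_comp]
    show Z.isoSpec.hom ≫ Spec.map c₀.appTop ≫ W.toScheme.isoSpec.inv = c₀
    rw [← Category.assoc, Iso.comp_inv_eq]
    exact Scheme.isoSpec_hom_naturality c₀
  haveI : Flat c₀ := hfl
  haveI : Surjective c₀ := hsu
  haveI : Flat (cov R B k) := by rw [hcov]; infer_instance
  haveI : Surjective (cov R B k) := by rw [hcov]; infer_instance
  haveI : QuasiCompact (cov R B k) := by rw [hcov]; infer_instance
  haveI : Module.Flat R B := by
    have h1 : Flat (Spec.map c₀.appTop) := by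
      rw [show Spec.map c₀.appTop = Z.isoSpec.inv ≫ c₀ ≫ W.toScheme.isoSpec.hom by
        rw [← Scheme.isoSpec_hom_naturality c₀, Iso.inv_hom_id_assoc]]
      infer_instance
    exact (RingHom.flat_algebraMap_iff).1 (Flat.SpecMap_iff.1 h1)
  have hc : π ≫ p = cov R B k ≫ W.ι := by
    rw [hcov]
    simp only [π, Category.assoc, hc₀]
  have hP : P (pullW D π (cov R B k) hc).obj.hom := hbc (IsPullback.of_hasPullback D.obj.hom π) hD
  obtain ⟨U, ⟨e⟩⟩ := haff R B W.toScheme k _ hP
  obtain ⟨C, hC⟩ := exists_chart_of_refinement D π (cov R B k) hc U e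
  exact ⟨C, hC hv⟩

end Groth.Agent.H29CurveDesc
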