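import Groth.Agent.H13Desc.ModDesc
import Groth.Agent.H13Desc.Eff.Refine
import Groth.Agent.H13Desc.Eff.Saturate

/-!
# The gluing isomorphisms of a descent datum over affine test schemes
-/

set_option autoImplicit false
set_option linter.style.haveILetI false
set_option linter.unusedSectionVars false
set_option backward.isDefEq.respectTransparency false
set_option backward.isDefEq.respectTransparency.types false

universe u

open CategoryTheory CategoryTheory.Limits AlgebraicGeometry Desc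

namespace Groth.Agent.H29CurveDesc

open Groth.Agent.H13Desc.Eff

variable {R S : Type u} [CommRing R] [CommRing S] [Algebra R S]

/-- The covering morphism. -/
noncomputable abbrev cov (R S : Type u) [CommRing R] [CommRing S] [Algebra R S] {Y : Scheme.{u}}
    (k : Spec (CommRingCat.of R) ⟶ Y) : Spec (CommRingCat.of S) ⟶ Y :=
  Spec.map (H13Desc.ModDesc.φ R S) ≫ k

variable {Y : Scheme.{u}} {k : Spec (CommRingCat.of R) ⟶ Y} (D : SchDD (cov R S k))
variable {T : CommRingCat.{u}}

/-- The datum pulled back to a point. -/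
noncomputable abbrev At (a : CommRingCat.of S ⟶ T) : Scheme.{u} := pullback D.obj.hom (Spec.map a)

theorem compatAt {a b : CommRingCat.of S ⟶ T} (h : H13Desc.ModDesc.φ R S ≫ a = H13Desc.ModDesc.φ R S ≫ b)
    {U : Scheme.{u}} (y : U ⟶ Spec T) : (y ≫ Spec.map a) ≫ cov R S k = (y ≫ Spec.map b) ≫ cov R S k := by
  simp only [Category.assoc, cov, ← Spec.map_comp_assoc, h]

/-- The gluing between the pullbacks along two points with the same restriction. -/
noncomputable def tw (a b : CommRingCat.of S ⟶ T) (h : H13Desc.ModDesc.φ R S ≫ a = H13Desc.ModDesc.φ R S ≫ b) :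
    At D a ⟶ At D b :=
  pullback.lift (D.φ _ _ (compatAt h (pullback.snd D.obj.hom (Spec.map a)))
      ⟨pullback.fst D.obj.hom (Spec.map a), pullback.condition⟩).1
    (pullback.snd D.obj.hom (Spec.map a)) (D.φ _ _ _ _).2

theorem tw_snd (a b : CommRingCat.of S ⟶ T) (h : H13Desc.ModDesc.φ R S ≫ a = H13Desc.ModDesc.φ R S ≫ b) :
    tw D a b h ≫ pullback.snd D.obj.hom (Spec.map b) = pullback.snd D.obj.hom (Spec.map a) :=
  pullback.lift_snd _ _ _

theorem tw_fst (a b : CommRingCat.of S ⟶ T) (h : H13Desc.ModDesc.φ R S ≫ a = H13Desc.ModDesc.φ R S ≫ b)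
    {U : Scheme.{u}} (y : U ⟶ At D a) {x₀ x₁ : U ⟶ Spec (CommRingCat.of S)} (hx : x₀ ≫ cov R S k = x₁ ≫ cov R S k)
    (v : Lifts D.obj x₀) (hv : v.1 = y ≫ pullback.fst D.obj.hom (Spec.map a))
    (h₀ : x₀ = y ≫ pullback.snd D.obj.hom (Spec.map a) ≫ Spec.map a)
    (h₁ : x₁ = y ≫ pullback.snd D.obj.hom (Spec.map a) ≫ Spec.map b) :
    y ≫ tw D a b h ≫ pullback.fst D.obj.hom (Spec.map b) = (D.φ x₀ x₁ hx v).1 := by
  subst h₀ h₁
  rw [tw, pullback.lift_fst]
  exact (D.φ_natural y _ _ (compatAt h (pullback.snd D.obj.hom (Spec.map a))) hx _ v hv).symm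

theorem tw_self (a : CommRingCat.of S ⟶ T) : tw D a a rfl = 𝟙 _ := by
  apply pullback.hom_ext
  · rw [tw, pullback.lift_fst, Category.id_comp, D.φ_self]
  · rw [tw_snd, Category.id_comp]

theorem tw_comp (a b d : CommRingCat.of S ⟶ T) (h : H13Desc.ModDesc.φ R S ≫ a = H13Desc.ModDesc.φ R S ≫ b)
    (h' : H13Desc.ModDesc.φ R S ≫ b = H13Desc.ModDesc.φ R S ≫ d) :
    tw D a b h ≫ tw D b d h' = tw D a d (h.trans h') := by
  apply pullback.hom_ext
  · let p := pullback.snd D.obj.hom (Spec.map a)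
    let v : Lifts D.obj (p ≫ Spec.map a) := ⟨pullback.fst D.obj.hom (Spec.map a), pullback.condition⟩
    rw [Category.assoc, tw_fst D b d h' (tw D a b h) (compatAt h' p) (D.φ _ _ (compatAt h p) v)
      (by rw [tw, pullback.lift_fst]) (by rw [reassoc_of% (tw_snd D a b h)])
      (by rw [reassoc_of% (tw_snd D a b h)])]
    rw [D.φ_comp _ _ _ (compatAt h p) (compatAt h' p), tw, pullback.lift_fst]
  · rw [Category.assoc, tw_snd, tw_snd, tw_snd]

instance isIso_tw (a b : CommRingCat.of S ⟶ T) (h : H13Desc.ModDesc.φ R S ≫ a = H13Desc.ModDesc.φ R S ≫ b) :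
    IsIso (tw D a b h) :=
  ⟨tw D b a h.symm, by rw [tw_comp, tw_self], by rw [tw_comp, tw_self]⟩

theorem isPullback_tw (a b : CommRingCat.of S ⟶ T) (h : H13Desc.ModDesc.φ R S ≫ a = H13Desc.ModDesc.φ R S ≫ b) :
    IsPullback (tw D a b h) (pullback.snd D.obj.hom (Spec.map a)) (pullback.snd D.obj.hom (Spec.map b))
      (Spec.map (𝟙 T)) :=
  IsPullback.of_horiz_isIso ⟨by rw [Spec.map_id, Category.comp_id, tw_snd]⟩

/-- Change of test scheme. -/
noncomputable def push {T' : CommRingCat.{u}} (a : CommRingCat.of S ⟶ T) (g : T ⟶ T') :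
    At D (a ≫ g) ⟶ At D a :=
  pullback.lift (pullback.fst D.obj.hom (Spec.map (a ≫ g)))
    (pullback.snd D.obj.hom (Spec.map (a ≫ g)) ≫ Spec.map g)
    (by rw [Category.assoc, ← Spec.map_comp]; exact pullback.condition)

theorem isPullback_push {T' : CommRingCat.{u}} (a : CommRingCat.of S ⟶ T) (g : T ⟶ T') :
    IsPullback (push D a g) (pullback.snd D.obj.hom (Spec.map (a ≫ g))) (pullback.snd D.obj.hom (Spec.map a))
      (Spec.map g) := by
  refine IsPullback.of_right ?_ (pullback.lift_snd _ _ _) (IsPullback.of_hasPullback D.obj.hom (Spec.map a))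
  rw [push, pullback.lift_fst, ← Spec.map_comp]
  exact IsPullback.of_hasPullback D.obj.hom (Spec.map (a ≫ g))

theorem push_fst {T' : CommRingCat.{u}} (a : CommRingCat.of S ⟶ T) (g : T ⟶ T') :
    push D a g ≫ pullback.fst D.obj.hom (Spec.map a) = pullback.fst D.obj.hom (Spec.map (a ≫ g)) :=
  pullback.lift_fst _ _ _

theorem push_tw {T' : CommRingCat.{u}} (a b : CommRingCat.of S ⟶ T)
    (h : H13Desc.ModDesc.φ R S ≫ a = H13Desc.ModDesc.φ R S ≫ b) (g : T ⟶ T')
    (h' : H13Desc.ModDesc.φ R S ≫ a ≫ g = H13Desc.ModDesc.φ R S ≫ b ≫ g) :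
    push D a g ≫ tw D a b h = tw D (a ≫ g) (b ≫ g) h' ≫ push D b g := by
  apply pullback.hom_ext
  · rw [Category.assoc, Category.assoc, push_fst,
      tw_fst D a b h (push D a g) (compatAt h' (pullback.snd D.obj.hom (Spec.map (a ≫ g))))
        ⟨pullback.fst D.obj.hom (Spec.map (a ≫ g)), pullback.condition⟩ (push_fst D a g).symm
        (by rw [push, pullback.lift_snd_assoc, Category.assoc, ← Spec.map_comp])
        (by rw [push, pullback.lift_snd_assoc, Category.assoc, ← Spec.map_comp]), tw, pullback.lift_fst]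
  · rw [Category.assoc, Category.assoc, tw_snd, push, push, pullback.lift_snd, pullback.lift_snd,
      reassoc_of% (tw_snd D (a ≫ g) (b ≫ g) h')]

end Groth.Agent.H29CurveDesc
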